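import Cfsg.Agent.ConstFix57.Many
import Cfsg.Agent.ZStar.Theorem
import Cfsg.Agent.Constrained.Basic
import Cfsg.Agent.S0205

/-!
At most one fixed point: a regular normal subgroup, or only the identity fixes three points.
-/

set_option autoImplicit false
set_option linter.unusedSectionVars false

namespace CfsgLib.ConstFix57

open MulAction

variable {G Ω : Type*} [Group G] [MulAction G Ω]

/-- A non-trivial solvable normal subgroup of a faithful doubly transitive group contains a regular
normal subgroup. -/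
theorem exists_regular_of_solvable
    (pair : ∀ a b c d : Ω, a ≠ b → c ≠ d → ∃ g : G, g • a = c ∧ g • b = d)
    (faith : ∀ g : G, (∀ x : Ω, g • x = x) → g = 1)
    (O : Subgroup G) [O.Normal] (hs : Group.IsSolvable O) (hne : O ≠ ⊥) :
    ∃ R : Subgroup G, R.Normal ∧ (∀ x y : Ω, ∃ r ∈ R, r • x = y) ∧
      ∀ x : Ω, ∀ r ∈ R, r • x = x → r = 1 := by
  classical
  let d : ℕ → Subgroup G := fun k => (derivedSeries O k).map O.subtype
  obtain ⟨n, hn⟩ := hs.solvable
  have hex : ∃ k, d k = ⊥ := ⟨n, by simp only [d, hn, Subgroup.map_bot]⟩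
  have h0 : Nat.find hex ≠ 0 := fun e => hne (by
    have := Nat.find_spec hex
    rw [e] at this
    simp only [d, derivedSeries_zero, ← MonoidHom.range_eq_map, Subgroup.range_subtype] at this
    exact this)
  obtain ⟨k, hk⟩ : ∃ k, Nat.find hex = k + 1 := ⟨Nat.find hex - 1, by omega⟩
  set R := d k with hR
  haveI : (derivedSeries O k).Characteristic := derivedSeries_characteristic O k
  have hRn : R.Normal := ConjAct.normal_of_characteristic_of_normal
  have hRne : R ≠ ⊥ := Nat.find_min hex (by omega)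
  have hcomm : ∀ x ∈ R, ∀ y ∈ R, Commute x y := by
    have hd : d (k + 1) = ⊥ := hk ▸ Nat.find_spec hex
    simp only [d, derivedSeries_succ, Subgroup.map_commutator] at hd
    intro x hx y hy
    exact (commutatorElement_eq_one_iff_mul_comm.1 (by
      have := Subgroup.commutator_mem_commutator (H₁ := R) (H₂ := R) hx hy
      rw [hR] at this
      simp only [d] at this
      rw [hd] at this
      exact Subgroup.mem_bot.1 this) :)
  have htrans : ∀ x y : Ω, ∃ r ∈ R, r • x = y := by
    intro x y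
    by_cases hxy : x = y
    · exact ⟨1, R.one_mem, by rw [one_smul, hxy]⟩
    obtain ⟨r, hr, hr1⟩ := (Subgroup.bot_or_exists_ne_one R).resolve_left hRne
    obtain ⟨z, hz⟩ : ∃ z : Ω, r • z ≠ z := by
      by_contra! h
      exact hr1 (faith r h)
    obtain ⟨g, hg1, hg2⟩ := pair z (r • z) x y hz.symm hxy
    refine ⟨g * r * g⁻¹, hRn.conj_mem r hr g, ?_⟩
    rw [mul_smul, mul_smul, show g⁻¹ • x = z by rw [← hg1, inv_smul_smul], hg2]
  refine ⟨R, hRn, htrans, fun x r hr hrx => faith r fun y => ?_⟩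
  obtain ⟨q, hq, rfl⟩ := htrans x y
  rw [← mul_smul, (hcomm r hr q hq).eq, mul_smul, hrx]

variable [Finite G] [Fintype Ω]

namespace Ctx

variable (D : Ctx G Ω)
include D

theorem mul_self_of_order_two {u : G} (hu : orderOf u = 2) : u * u = 1 := by
  have h := pow_orderOf_eq_one u
  rwa [hu, pow_two] at h

/-- The number of elements interchanging two given points. -/
theorem card_swaps [Fintype G] [DecidableEq Ω] {a b x y : Ω} (hab : a ≠ b) (hxy : x ≠ y) :
    (Finset.univ.filter (fun g : G => g • x = y ∧ g • y = x)).card = Nat.card (pairStab G a b) := by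
  classical
  obtain ⟨s, -, h1, h2⟩ := D.exists_swap hxy
  rw [D.card_pairStab hab hxy, Nat.card_eq_fintype_card, Fintype.card_subtype]
  symm
  refine Finset.card_bij (fun h _ => s * h) (fun h hh => ?_) (fun a _ b _ e => mul_left_cancel e)
    (fun g hg => ⟨s⁻¹ * g, ?_, by group⟩)
  · simp only [Finset.mem_filter, Finset.mem_univ, true_and, mem_pairStab] at hh ⊢
    rw [mul_smul, mul_smul, hh.1, hh.2]
    exact ⟨h1, h2⟩
  · simp only [Finset.mem_filter, Finset.mem_univ, true_and, mem_pairStab] at hg ⊢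
    rw [mul_smul, mul_smul, hg.1, hg.2, inv_smul_eq_iff, inv_smul_eq_iff]
    exact ⟨h1.symm, h2.symm⟩

/-- The centralizer of an element fixing three points is transitive on its fixed points. -/
theorem exists_commute_smul {h : G} (h3 : 2 < (fix Ω h).ncard) {x z : Ω} (hx : x ∈ fix Ω h)
    (hz : z ∈ fix Ω h) : ∃ g : G, Commute g h ∧ g • x = z := by
  classical
  by_cases hxz : x = z
  · exact ⟨1, Commute.one_left h, by rw [one_smul, hxz]⟩
  obtain ⟨y, hy, hyx, hyz⟩ : ∃ y ∈ fix Ω h, y ≠ x ∧ y ≠ z := by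
    by_contra! hcon
    have hsub : fix Ω h ⊆ {x, z} := fun y hy => by
      by_cases hyx : y = x
      · exact Or.inl hyx
      · exact Or.inr (hcon y hy hyx)
    have := Set.ncard_le_ncard hsub (Set.toFinite _)
    rw [Set.ncard_pair hxz] at this
    omega
  obtain ⟨s, -, s1, s2⟩ := D.exists_swap hyx.symm
  obtain ⟨r, -, r1, r2⟩ := D.exists_swap hyz
  refine ⟨r * s, ?_, by rw [mul_smul, s1, r1]⟩
  have e1 := D.inverts hyx.symm s1 s2 hx hy
  have e2 := D.inverts hyz r1 r2 hy hz
  have e3 : r * s * h * (r * s)⁻¹ = h := by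
    rw [show r * s * h * (r * s)⁻¹ = r * (s * h * s⁻¹) * r⁻¹ by group, e1,
      show r * h⁻¹ * r⁻¹ = (r * h * r⁻¹)⁻¹ by group, e2, inv_inv]
  exact mul_inv_eq_iff_eq_mul.1 e3

/-- No involution centralizes a non-identity element fixing two points. -/
theorem not_commute_involution (h1 : D.i ≤ 1) {h u : G} (hne : h ≠ 1) (hu : orderOf u = 2)
    {a b : Ω} (hab : a ≠ b) (ha : h • a = a) (hb : h • b = b) : ¬ Commute h u := by
  intro hc
  have h2 : 2 ≤ (fix Ω h).ncard :=
    (Set.one_lt_ncard (Set.toFinite _)).2 ⟨a, ha, b, hb, hab⟩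
  rw [D.fix_of_commute hu hc hne] at h2
  omega

theorem odd_fix (h1 : D.i ≤ 1) {h : G} (hne : h ≠ 1) (h3 : 2 < (fix Ω h).ncard) :
    Odd (fix Ω h).ncard := by
  classical
  haveI := Fintype.ofFinite G
  obtain ⟨a, b, c, ha, hb, hc, hab, hac, hbc⟩ :=
    (Set.two_lt_ncard_iff (Set.toFinite (fix Ω h))).1 h3
  set C := Subgroup.centralizer ({h} : Set G) with hC
  have hodd : Odd (Nat.card C) := by
    rw [← Nat.not_even_iff_odd]
    intro he
    haveI : Fact (Nat.Prime 2) := ⟨Nat.prime_two⟩
    obtain ⟨u, hu⟩ := exists_prime_orderOf_dvd_card' (G := C) 2 he.two_dvd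
    rw [← Subgroup.orderOf_coe] at hu
    exact D.not_commute_involution h1 hne hu hab ha hb
      (Subgroup.mem_centralizer_singleton_iff.1 u.2).symm
  refine Odd.of_dvd_nat hodd ⟨Nat.card ((C ⊓ stabilizer G a).subgroupOf C), ?_⟩
  rw [card_mul_card_image (fun g : C => (g : G) • a) ((C ⊓ stabilizer G a).subgroupOf C)]
  · congr 1
    rw [Set.ncard_eq_toFinset_card']
    congr 1
    ext x
    simp only [Finset.mem_image, Finset.mem_univ, true_and, Set.mem_toFinset]
    constructor
    · rintro ⟨g, rfl⟩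
      rw [mem_fix, ← mul_smul,
        ← (Subgroup.mem_centralizer_singleton_iff.1 g.2 : (g : G) * h = h * g), mul_smul, ha]
    · intro hx
      obtain ⟨g, hg, hgx⟩ := D.exists_commute_smul h3 ha hx
      exact ⟨⟨g, Subgroup.mem_centralizer_singleton_iff.2 hg.eq⟩, hgx⟩
  · intro g k
    rw [Subgroup.mem_subgroupOf, Subgroup.mem_inf, mem_stabilizer_iff, Subgroup.coe_mul,
      mul_smul, Subgroup.coe_inv, inv_smul_eq_iff]
    exact ⟨fun e => ⟨C.mul_mem (C.inv_mem g.2) k.2, e.symm⟩, fun e => e.2.symm⟩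

/-- An involution inverting `h` fixes one of the fixed points of `h`, when these are an odd
number. -/
theorem exists_fix_of_inverts {h s : G} (hs : s * s = 1) (hinv : s * h * s⁻¹ = h⁻¹)
    (hodd : Odd (fix Ω h).ncard) : ∃ x ∈ fix Ω h, s • x = x := by
  classical
  by_contra! hcon
  have hpres : ∀ x, x ∈ fix Ω h → s • x ∈ fix Ω h := by
    intro x hx
    rw [← fix_inv h, ← hinv, fix_conj]
    exact ⟨x, hx, rfl⟩
  have hev : ((fix Ω h).toFinset.card : ZMod 2) = 0 := by
    rw [← nsmul_one, ← Finset.sum_const]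
    refine Finset.sum_involution (fun x _ => s • x) (fun x _ => by decide)
      (fun x hx _ => hcon x (Set.mem_toFinset.1 hx))
      (fun x hx => Set.mem_toFinset.2 (hpres x (Set.mem_toFinset.1 hx)))
      (fun x _ => by rw [← mul_smul, hs, one_smul])
  rw [ZMod.natCast_eq_zero_iff_even, ← Set.ncard_eq_toFinset_card'] at hev
  exact (Nat.not_even_iff_odd.2 hodd) hev

theorem unique_fix (h1 : D.i ≤ 1) {u : G} (hu : orderOf u = 2) {x y : Ω} (hx : u • x = x)
    (hy : u • y = y) : x = y := by
  by_contra hxy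
  have : 2 ≤ (fix Ω u).ncard :=
    (Set.one_lt_ncard (Set.toFinite _)).2 ⟨x, hx, y, hy, hxy⟩
  rw [D.fix_involution hu] at this
  omega

/-- The number of involutions fixing a point. -/
theorem card_involutions_fixing [Fintype G] [DecidableEq G] [DecidableEq Ω] (hi : D.i = 1)
    {a b : Ω} (hab : a ≠ b) (x : Ω) :
    (Finset.univ.filter (fun v : G => orderOf v = 2 ∧ v • x = x)).card =
      Nat.card (pairStab G a b) := by
  classical
  set n := Fintype.card Ω with hn
  set J : Ω → Finset G := fun x => Finset.univ.filter (fun v => orderOf v = 2 ∧ v • x = x) with hJ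
  set I : Finset G := Finset.univ.filter (fun v => orderOf v = 2) with hI
  show (J x).card = _
  have hconst : ∀ y, (J y).card = (J x).card := by
    intro y
    obtain ⟨g, hg⟩ := D.exists_smul x y D.exists_ne
    symm
    refine Finset.card_bij (fun v _ => g * v * g⁻¹) (fun v hv => ?_)
      (fun s _ r _ e => mul_left_cancel (mul_right_cancel e))
      (fun v hv => ⟨g⁻¹ * v * g, ?_, by group⟩)
    · simp only [hJ, Finset.mem_filter, Finset.mem_univ, true_and] at hv ⊢
      refine ⟨?_, by rw [← hg, mul_smul, mul_smul, inv_smul_smul, hv.2]⟩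
      rw [← hv.1]
      exact orderOf_injective (MulAut.conj g).toMonoidHom (MulEquiv.injective _) v
    · simp only [hJ, Finset.mem_filter, Finset.mem_univ, true_and] at hv ⊢
      refine ⟨?_, by rw [mul_smul, mul_smul, hg, hv.2, ← hg, inv_smul_smul]⟩
      rw [← hv.1, show g⁻¹ * v * g = (MulAut.conj g⁻¹).toMonoidHom v by simp]
      exact orderOf_injective (MulAut.conj g⁻¹).toMonoidHom (MulEquiv.injective _) v
  have hIJ : I.card = n * (J x).card := by
    have h := Finset.sum_card_bipartiteAbove_eq_sum_card_bipartiteBelow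
      (fun (v : G) (y : Ω) => v • y = y) (s := I) (t := Finset.univ)
    simp only [Finset.bipartiteAbove, Finset.bipartiteBelow] at h
    have e1 : ∀ v ∈ I, (Finset.univ.filter (fun y : Ω => v • y = y)).card = 1 := by
      intro v hv
      rw [← hi, ← D.fix_involution (Finset.mem_filter.1 hv).2, ← Set.ncard_coe_finset,
        Finset.coe_filter_univ]
      rfl
    have e2 : ∀ y : Ω, (I.filter (fun v => v • y = y)).card = (J x).card := by
      intro y
      rw [← hconst y, hI, hJ, Finset.filter_filter]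
    rw [Finset.sum_congr rfl e1, Finset.sum_congr rfl (fun y _ => e2 y), Finset.sum_const,
      Finset.sum_const, Finset.card_univ, smul_eq_mul, smul_eq_mul, mul_one] at h
    exact h
  have hcardI : Nat.card G = I.card * Nat.card (Subgroup.centralizer ({D.t} : Set G)) := by
    rw [card_mul_card_image (fun g : G => g * D.t * g⁻¹) (Subgroup.centralizer ({D.t} : Set G))]
    · congr 2
      ext v
      simp only [hI, Finset.mem_image, Finset.mem_univ, true_and, Finset.mem_filter]
      constructor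
      · rintro ⟨g, rfl⟩
        rw [← D.ord]
        exact orderOf_injective (MulAut.conj g).toMonoidHom (MulEquiv.injective _) D.t
      · intro hv
        exact isConj_iff.1 (D.isConj_of_involution hv)
    · intro g h
      rw [Subgroup.mem_centralizer_singleton_iff]
      constructor
      · intro e
        calc g⁻¹ * h * D.t = g⁻¹ * (h * D.t * h⁻¹) * h := by group
          _ = g⁻¹ * (g * D.t * g⁻¹) * h := by rw [e]
          _ = D.t * (g⁻¹ * h) := by group
      · intro e
        calc g * D.t * g⁻¹ = g * (D.t * (g⁻¹ * h)) * h⁻¹ := by group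
          _ = g * (g⁻¹ * h * D.t) * h⁻¹ := by rw [e]
          _ = h * D.t * h⁻¹ := by group
  rw [D.swap_isConj_and_card.1, hi, D.card_group hab, hIJ, ← hn] at hcardI
  have hn2 : 1 < n := Fintype.one_lt_card_iff.2 ⟨a, b, hab⟩
  have : n * (n - 1) * (J x).card = n * (n - 1) * Nat.card (pairStab G a b) := by
    rw [hcardI]; ring
  exact Nat.eq_of_mul_eq_mul_left (Nat.mul_pos (by omega) (by omega)) this

/-- One fixed point and an element fixing three: all involutions of the stabiliser of one of its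
fixed points invert it. -/
theorem inverts_of_fix (hi : D.i = 1) {h : G} (hne : h ≠ 1) (h3 : 2 < (fix Ω h).ncard)
    {x : Ω} (hx : x ∈ fix Ω h) {v : G} (hv : orderOf v = 2) (hvx : v • x = x) :
    v * h * v⁻¹ = h⁻¹ := by
  classical
  haveI := Fintype.ofFinite G
  obtain ⟨a, b, c, ha, hb, hc, hab, hac, hbc⟩ :=
    (Set.two_lt_ncard_iff (Set.toFinite (fix Ω h))).1 h3
  have hodd := D.odd_fix hi.le hne h3
  set F := (fix Ω h).toFinset with hF
  have memF : ∀ {y : Ω}, y ∈ F ↔ h • y = y := by
    intro y; rw [hF, Set.mem_toFinset, mem_fix]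
  set w := Nat.card (pairStab G a b) with hw
  set M : Finset G := Finset.univ.filter
    (fun g => ∃ p ∈ F.offDiag, g • p.1 = p.2 ∧ g • p.2 = p.1) with hM
  set J : Finset G := Finset.univ.filter (fun g => ∃ y ∈ F, orderOf g = 2 ∧ g • y = y) with hJ
  have hMprop : ∀ g ∈ M, g * g = 1 ∧ g * h * g⁻¹ = h⁻¹ ∧ g ≠ 1 := by
    intro g hg
    obtain ⟨⟨y, z⟩, hp, h1, h2⟩ := (Finset.mem_filter.1 hg).2
    obtain ⟨hy, hz, hyz⟩ := Finset.mem_offDiag.1 hp
    exact ⟨D.swap_sq hyz h1 h2, D.inverts hyz h1 h2 (memF.1 hy) (memF.1 hz),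
      fun e => hyz (by rw [e, one_smul] at h1; exact h1)⟩
  have hord : ∀ g ∈ M, orderOf g = 2 := fun g hg =>
    orderOf_eq_prime (by rw [pow_two]; exact (hMprop g hg).1) (hMprop g hg).2.2
  have hsub : M ⊆ J := by
    intro g hg
    obtain ⟨y, hy, hgy⟩ := D.exists_fix_of_inverts (hMprop g hg).1 (hMprop g hg).2.1 hodd
    exact Finset.mem_filter.2 ⟨Finset.mem_univ _, y, memF.2 hy, hord g hg, hgy⟩
  have hJcard : J.card ≤ F.card * w := by
    have : J ⊆ F.biUnion (fun y => Finset.univ.filter (fun g => orderOf g = 2 ∧ g • y = y)) := by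
      intro g hg
      obtain ⟨y, hy, h1, h2⟩ := (Finset.mem_filter.1 hg).2
      exact Finset.mem_biUnion.2 ⟨y, hy, Finset.mem_filter.2 ⟨Finset.mem_univ _, h1, h2⟩⟩
    refine (Finset.card_le_card this).trans ((Finset.card_biUnion_le).trans ?_)
    rw [Finset.sum_congr rfl (fun y _ => D.card_involutions_fixing hi hab y), Finset.sum_const,
      smul_eq_mul]
  have hMcard : F.card * w * (F.card - 1) ≤ M.card * (F.card - 1) := by
    have hdc := Finset.sum_card_bipartiteAbove_eq_sum_card_bipartiteBelow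
      (fun (g : G) (p : Ω × Ω) => g • p.1 = p.2 ∧ g • p.2 = p.1) (s := M) (t := F.offDiag)
    simp only [Finset.bipartiteAbove, Finset.bipartiteBelow] at hdc
    have e2 : ∀ p ∈ F.offDiag, (M.filter (fun g => g • p.1 = p.2 ∧ g • p.2 = p.1)).card = w := by
      intro p hp
      rw [hw, ← D.card_swaps hab (Finset.mem_offDiag.1 hp).2.2]
      congr 1
      ext g
      simp only [Finset.mem_filter, hM, Finset.mem_univ, true_and]
      exact ⟨fun h => h.2, fun h => ⟨⟨p, hp, h⟩, h⟩⟩
    have e1 : ∀ g ∈ M,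
        (F.offDiag.filter (fun p => g • p.1 = p.2 ∧ g • p.2 = p.1)).card ≤ F.card - 1 := by
      intro g hg
      obtain ⟨y, hy, hgy⟩ := D.exists_fix_of_inverts (hMprop g hg).1 (hMprop g hg).2.1 hodd
      rw [← Finset.card_erase_of_mem (memF.2 hy)]
      refine Finset.card_le_card_of_injOn Prod.fst (fun p hp => ?_) (fun p hp q hq e => ?_)
      · obtain ⟨hp, hg1, -⟩ := Finset.mem_filter.1 hp
        obtain ⟨hp1, hp2, hne'⟩ := Finset.mem_offDiag.1 hp
        exact Finset.mem_coe.2 (Finset.mem_erase.2 ⟨fun e => hne' (by rw [← hg1, e, hgy]), hp1⟩)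
      · simp only [Finset.coe_filter, Set.mem_setOf_eq] at hp hq
        exact Prod.ext e (by rw [← hp.2.1, e, hq.2.1])
    have := Finset.sum_le_sum e1
    rw [hdc, Finset.sum_congr rfl e2, Finset.sum_const, Finset.sum_const, smul_eq_mul, smul_eq_mul,
      Finset.offDiag_card, Nat.mul_comm] at this
    calc F.card * w * (F.card - 1) = w * (F.card * F.card - F.card) := by
          rw [← Nat.mul_sub_one]; ring
      _ ≤ M.card * (F.card - 1) := this
  have hF1 : 0 < F.card - 1 := by
    have : 2 < F.card := by rw [hF, ← Set.ncard_eq_toFinset_card']; exact h3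
    omega
  have hMJ : M = J := Finset.eq_of_subset_of_card_le hsub
    (hJcard.trans (Nat.le_of_mul_le_mul_right hMcard hF1))
  have hvJ : v ∈ J := Finset.mem_filter.2 ⟨Finset.mem_univ _, x, memF.2 hx, hv, hvx⟩
  exact (hMprop v (hMJ ▸ hvJ)).2.1

/-- One fixed point and an element fixing three: every involution is isolated. -/
theorem isIsolated (hi : D.i = 1) {h : G} (hne : h ≠ 1) (h3 : 2 < (fix Ω h).ncard) :
    Cfsg.IsIsolated D.t := by
  classical
  intro g hg
  obtain ⟨a, b, c, ha, hb, hc, hab, hac, hbc⟩ :=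
    (Set.two_lt_ncard_iff (Set.toFinite (fix Ω h))).1 h3
  obtain ⟨x, hx⟩ : ∃ x, D.t • x = x := by
    obtain ⟨x, hx⟩ := (Set.ncard_eq_one).1 (hi ▸ D.card_t)
    exact ⟨x, mem_fix.1 (hx ▸ Set.mem_singleton x)⟩
  set u' := g * D.t * g⁻¹ with hu'
  have hu'2 : orderOf u' = 2 := by
    rw [← D.ord]
    exact orderOf_injective (MulAut.conj g).toMonoidHom (MulEquiv.injective _) D.t
  have hu'x : u' • x = x := by
    refine D.unique_fix hi.le D.ord ?_ hx
    rw [← mul_smul, hg.eq, mul_smul, hx]
  obtain ⟨p, hp⟩ := D.exists_smul x a D.exists_ne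
  by_contra hne'
  have hconj : ∀ v : G, orderOf v = 2 → v • x = x → p * v * p⁻¹ * h * (p * v * p⁻¹)⁻¹ = h⁻¹ := by
    intro v hv hvx
    refine D.inverts_of_fix hi hne h3 ha ?_ ?_
    · rw [← hv]
      exact orderOf_injective (MulAut.conj p).toMonoidHom (MulEquiv.injective _) v
    · rw [← hp, mul_smul, mul_smul, inv_smul_smul, hvx]
  have hcu : Commute u' D.t := hg.symm
  have htu : D.t * u' ≠ 1 := fun e => hne' (by
    rw [← inv_eq_of_mul_eq_one_right e, inv_eq_of_mul_eq_one_left D.mul_self])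
  have ho : orderOf (D.t * u') = 2 := by
    refine orderOf_eq_prime ?_ htu
    rw [hcu.symm.mul_pow, pow_two, pow_two, D.mul_self, one_mul, D.mul_self_of_order_two hu'2]
  have e := hconj _ ho (by rw [mul_smul, hu'x, hx])
  rw [show p * (D.t * u') * p⁻¹ = (p * D.t * p⁻¹) * (p * u' * p⁻¹) by group] at e
  rw [show ∀ A B : G, A * B * h * (A * B)⁻¹ = A * (B * h * B⁻¹) * A⁻¹ from
      fun A B => by group, hconj u' hu'2 hu'x,
    show ∀ A : G, A * h⁻¹ * A⁻¹ = (A * h * A⁻¹)⁻¹ from fun A => by group,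
    hconj D.t D.ord hx, inv_inv] at e
  -- `h` is an involution fixing two points
  have hh2 : orderOf h = 2 :=
    orderOf_eq_prime (by rw [pow_two]; nth_rewrite 1 [e]; exact inv_mul_cancel h) hne
  exact D.not_commute_involution hi.le hne hh2 hab ha hb (Commute.refl h)

/-- At most one fixed point: a regular normal subgroup, or only the identity fixes three points. -/
theorem regular_or_three (h1 : D.i ≤ 1) :
    (∃ R : Subgroup G, R.Normal ∧ (∀ x y : Ω, ∃ r ∈ R, r • x = y) ∧
      ∀ x : Ω, ∀ r ∈ R, r • x = x → r = 1) ∨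
    (∀ g : G, ∀ a b c : Ω, a ≠ b → b ≠ c → a ≠ c → g • a = a → g • b = b → g • c = c → g = 1) := by
  classical
  rw [or_iff_not_imp_right]
  intro hnot
  push Not at hnot
  obtain ⟨h, a, b, c, hab, hbc, hac, ha, hb, hc, hne⟩ := hnot
  have h3 : 2 < (fix Ω h).ncard :=
    (Set.two_lt_ncard_iff (Set.toFinite _)).2 ⟨a, b, c, ha, hb, hc, hab, hac, hbc⟩
  rcases Nat.le_one_iff_eq_zero_or_eq_one.1 h1 with h0 | hi
  · exfalso
    obtain ⟨s, hs, hs1, hs2⟩ := D.exists_swap hab
    obtain ⟨x, -, hsx⟩ := D.exists_fix_of_inverts hs (D.inverts hab hs1 hs2 ha hb)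
      (D.odd_fix h1 hne h3)
    have hord : orderOf s = 2 := orderOf_eq_prime (by rw [pow_two]; exact hs)
      (fun e => hab (by rw [e, one_smul] at hs1; exact hs1))
    have := D.fix_involution hord
    rw [h0, Set.ncard_eq_zero (Set.toFinite _)] at this
    exact (this ▸ (mem_fix.2 hsx : x ∈ fix Ω s) : x ∈ (∅ : Set Ω))
  · haveI : Fact (Nat.Prime 2) := ⟨Nat.prime_two⟩
    have hz := CfsgLib.ZStar.inZStar_of_isolated D.ord (D.isIsolated hi hne h3)
    haveI : (Cfsg.pPrimeCore 2 G).Normal := CfsgLib.Constrained.instNormalPPrimeCore 2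
    refine exists_regular_of_solvable D.pair D.faith (Cfsg.pPrimeCore 2 G)
      (Cfsg.Agent.S0205.result ?_) ?_
    · rw [← Nat.not_even_iff_odd, even_iff_two_dvd]
      exact CfsgLib.Constrained.pPrimeCore_not_dvd
    · intro hbot
      obtain ⟨x, hx⟩ := (Set.ncard_eq_one).1 (hi ▸ D.card_t)
      obtain ⟨y, hy⟩ := D.exists_ne x
      obtain ⟨g, hg⟩ := D.exists_smul x y D.exists_ne
      have he := hz g
      rw [hbot, Subgroup.mem_bot, mul_inv_eq_one] at he
      have hxt : D.t • x = x := mem_fix.1 (hx ▸ Set.mem_singleton x)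
      refine hy (D.unique_fix hi.le D.ord ?_ hxt)
      conv_lhs => rw [← he]
      rw [← hg, mul_smul, mul_smul, inv_smul_smul, hxt]

end Ctx

end CfsgLib.ConstFix57
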